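import Cfsg.Agent.H274.DG.Two
import Cfsg.Agent.H891.DG.Tools

/-!
# `CohAt p T` for the groups with `Rk2 r T`, `p ≠ r` (for S4180, task K2, helper274)
-/

set_option autoImplicit false

namespace Cfsg.Agent.H274.DG

open Cfsg.Agent.H891.DG

universe u

theorem not_dvd_card_of_isPGroup {r p : ℕ} [Fact r.Prime] (hp : p.Prime) (hpr : p ≠ r) {G : Type u} [Group G]
    [Finite G] (h : IsPGroup r G) : ¬ p ∣ Nat.card G := by
  obtain ⟨k, hk⟩ := IsPGroup.iff_card.1 h
  rw [hk]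
  intro h1
  exact hpr ((Nat.prime_dvd_prime_iff_eq hp Fact.out).1 (hp.dvd_of_dvd_pow h1))

/-- **Task K2.** -/
theorem cohAt_of_rk2 {r p : ℕ} [Fact r.Prime] (hp : p.Prime) (hpr : p ≠ r) {T : Type u} [Group T] [Finite T]
    [IsSimpleGroup T] (hna : ¬ IsMulCommutative T) (h : Rk2 r T) : CohAt p T := by
  obtain ⟨A, B, hA, hB, hAB, hne⟩ := exists_two hna h
  exact Tools.cohAt_of_two hp (not_dvd_card_of_isPGroup hp hpr hA) (not_dvd_card_of_isPGroup hp hpr hB) hAB hne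

end Cfsg.Agent.H274.DG
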